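import Groth.Agent.L05.HensTransfer.Main

/-!
# The two forms of being the henselization of an algebra essentially of finite type
-/

universe u

open IsLocalRing

namespace Groth.L05.HensTransfer

set_option linter.style.haveILetI false

theorem of_atPrime (A A' : Type u) [CommRing A] [CommRing A'] [IsLocalRing A'] [Algebra A A']
    (h : ∃ (B : Type u) (_ : CommRing B) (_ : Algebra A B) (_ : Algebra.FiniteType A B) (p : Ideal B)
      (_ : p.IsPrime) (_ : Algebra (Localization.AtPrime p) A')
      (_ : IsScalarTower A (Localization.AtPrime p) A')
      (_ : IsLocalHom (algebraMap (Localization.AtPrime p) A')),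
      Hensel.IsHenselization (Localization.AtPrime p) A') : IsHensEft A A' := by
  obtain ⟨B, _, _, _, p, _, _, _, _, hH⟩ := h
  haveI : Algebra.EssFiniteType B (Localization.AtPrime p) := .of_isLocalization _ p.primeCompl
  haveI : Algebra.EssFiniteType A (Localization.AtPrime p) := .comp A B _
  exact ⟨Localization.AtPrime p, inferInstance, inferInstance, inferInstance, inferInstance,
    inferInstance, inferInstance, inferInstance, hH⟩

theorem isHenselization_of_equiv {L L' S : Type u} [CommRing L] [IsLocalRing L] [CommRing L']
    [IsLocalRing L'] [CommRing S] [IsLocalRing S] [Algebra L S] [Algebra L' S]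
    [IsLocalHom (algebraMap L S)] [IsLocalHom (algebraMap L' S)] (e : L' ≃+* L)
    (he : (algebraMap L S).comp e.toRingHom = algebraMap L' S) [h : Hensel.IsHenselization L S] :
    Hensel.IsHenselization L' S where
  henselian := h.henselian
  universal T _ _ f hf := by
    have h1 : IsLocalHom (f.comp e.symm.toRingHom) := ⟨fun x hx => by
      have := (hf.map_nonunit _ hx).map e
      simpa using this⟩
    obtain ⟨g, hg, hgu⟩ := h.universal T (f.comp e.symm.toRingHom) h1
    refine ⟨g, RingHom.ext fun x => ?_, fun g' hg' => hgu g' (RingHom.ext fun x => ?_)⟩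
    · rw [← he]
      have := DFunLike.congr_fun hg (e x)
      simpa using this
    · rw [← he] at hg'
      have := DFunLike.congr_fun hg' (e.symm x)
      simpa using this

theorem exists_atPrime (A A' : Type u) [CommRing A] [CommRing A'] [IsLocalRing A'] [Algebra A A']
    (h : IsHensEft A A') :
    ∃ (B : Type u) (_ : CommRing B) (_ : Algebra A B) (_ : Algebra.FiniteType A B) (p : Ideal B)
      (_ : p.IsPrime) (_ : Algebra (Localization.AtPrime p) A')
      (_ : IsScalarTower A (Localization.AtPrime p) A')
      (_ : IsLocalHom (algebraMap (Localization.AtPrime p) A')),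
      Hensel.IsHenselization (Localization.AtPrime p) A' := by
  obtain ⟨L, _, _, _, _, _, _, _, hH⟩ := h
  haveI := hH
  let B := Algebra.EssFiniteType.subalgebra A L
  let p : Ideal B := (maximalIdeal L).comap (algebraMap B L)
  haveI : p.IsPrime := Ideal.IsPrime.comap _
  have hp : Algebra.EssFiniteType.submonoid A L = p.primeCompl := by
    ext x
    show IsUnit (algebraMap B L x) ↔ ¬ algebraMap B L x ∈ maximalIdeal L
    rw [IsLocalRing.mem_maximalIdeal, mem_nonunits_iff, not_not]
  haveI : IsLocalization.AtPrime L p := by
    show IsLocalization p.primeCompl L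
    rw [← hp]
    exact Algebra.EssFiniteType.isLocalization A L
  let e : Localization.AtPrime p ≃ₐ[B] L :=
    IsLocalization.algEquiv p.primeCompl (Localization.AtPrime p) L
  letI : Algebra (Localization.AtPrime p) A' :=
    ((algebraMap L A').comp e.toRingEquiv.toRingHom).toAlgebra
  haveI : IsScalarTower A (Localization.AtPrime p) A' := IsScalarTower.of_algebraMap_eq fun a => by
    show algebraMap A A' a = algebraMap L A' (e (algebraMap A (Localization.AtPrime p) a))
    rw [IsScalarTower.algebraMap_apply A B (Localization.AtPrime p), e.commutes,
      ← IsScalarTower.algebraMap_apply A B L, ← IsScalarTower.algebraMap_apply A L A']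
  haveI : IsLocalHom (algebraMap (Localization.AtPrime p) A') := ⟨fun x hx => by
    have := (IsLocalHom.map_nonunit (f := algebraMap L A') (e x) hx).map e.symm
    simpa using this⟩
  exact ⟨B, inferInstance, inferInstance, inferInstance, p, inferInstance, inferInstance,
    inferInstance, inferInstance, isHenselization_of_equiv e.toRingEquiv rfl⟩

end Groth.L05.HensTransfer
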