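import Groth.Agent.L07.BrnchCompl.Punctured
import Groth.Agent.L07.RegularFlat
import Groth.Agent.L13.LocalPair.Hens
import Mathlib.RingTheory.Ideal.KrullsHeightTheorem
import Mathlib.RingTheory.Flat.FaithfullyFlat.Algebra
import Mathlib.RingTheory.Ideal.GoingDown

/-!
# Components of dimension one under completion-like extensions of henselian local rings
-/

set_option autoImplicit false
set_option linter.style.haveILetI false

universe u

open IsLocalRing

namespace Groth.L05.HensTransfer.ImmGen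

/-- The only prime strictly above `P` is the maximal ideal. -/
def Cov {C : Type u} [CommRing C] [IsLocalRing C] (P : Ideal C) : Prop :=
  P ≠ maximalIdeal C ∧ ∀ Q : Ideal C, Q.IsPrime → P ≤ Q → Q = P ∨ Q = maximalIdeal C

theorem cov_iff {C : Type u} [CommRing C] [IsLocalRing C] (P : Ideal C) [P.IsPrime] :
    ringKrullDim (C ⧸ P) = 1 ↔ Cov P := by
  have hK : Ring.KrullDimLE 1 (C ⧸ P) ↔
      ∀ Q : Ideal C, Q.IsPrime → P ≤ Q → Q = P ∨ Q = maximalIdeal C := by
    rw [Ring.krullDimLE_one_iff_of_isPrime_bot]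
    constructor
    · intro h Q hQ hle
      by_cases h0 : Q.map (Ideal.Quotient.mk P) = ⊥
      · exact Or.inl (le_antisymm (fun x hx => Ideal.Quotient.eq_zero_iff_mem.mp
          (by simpa [h0] using Ideal.mem_map_of_mem (Ideal.Quotient.mk P) hx)) hle)
      · haveI : (Q.map (Ideal.Quotient.mk P)).IsPrime :=
          Ideal.map_isPrime_of_surjective Ideal.Quotient.mk_surjective (by rwa [Ideal.mk_ker])
        haveI := h _ h0 inferInstance
        have hmax := Ideal.comap_isMaximal_of_surjective (Ideal.Quotient.mk P)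
          Ideal.Quotient.mk_surjective (K := Q.map (Ideal.Quotient.mk P))
        rw [Ideal.comap_map_of_surjective _ Ideal.Quotient.mk_surjective, ← RingHom.ker_eq_comap_bot,
          Ideal.mk_ker, sup_eq_left.mpr hle] at hmax
        exact Or.inr (IsLocalRing.eq_maximalIdeal hmax)
    · intro h J hJ0 hJ
      haveI := hJ
      rcases h (J.comap (Ideal.Quotient.mk P)) inferInstance
        (fun x hx => by rw [Ideal.mem_comap, Ideal.Quotient.eq_zero_iff_mem.mpr hx]; exact zero_mem _) with h1 | h1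
      · refine (hJ0 ?_).elim
        rw [← Ideal.map_comap_of_surjective _ Ideal.Quotient.mk_surjective J, h1, Ideal.map_quotient_self]
      · rw [← Ideal.map_comap_of_surjective _ Ideal.Quotient.mk_surjective J, h1]
        refine Ideal.IsMaximal.map_of_surjective_of_ker_le Ideal.Quotient.mk_surjective ?_
        rw [Ideal.mk_ker]
        exact le_maximalIdeal (Ideal.IsPrime.ne_top inferInstance)
  have h0 : Ring.KrullDimLE 0 (C ⧸ P) ↔ P = maximalIdeal C := by
    constructor
    · intro h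
      exact IsLocalRing.eq_maximalIdeal
        (Ideal.Quotient.maximal_of_isField P Ring.KrullDimLE.isField_of_isDomain)
    · rintro rfl
      exact Ring.krullDimLE_iff.mpr
        (ringKrullDim_eq_zero_of_isField ((Ideal.Quotient.maximal_ideal_iff_isField_quotient _).mp
          (maximalIdeal.isMaximal C))).le
  constructor
  · intro h
    refine ⟨fun hP => ?_, hK.mp (Ring.krullDimLE_iff.mpr (by rw [h]; rfl))⟩
    have := Ring.krullDimLE_iff.mp (h0.mpr hP)
    rw [h] at this
    exact absurd (WithBot.coe_le_coe.mp this) (by decide)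
  · rintro ⟨hne, h⟩
    refine le_antisymm (Ring.krullDimLE_iff.mp (hK.mpr h)) ?_
    by_contra hlt
    exact hne (h0.mp (Ring.krullDimLE_iff.mpr (ENat.WithBot.lt_add_one_iff.mp (by simpa using lt_of_not_ge hlt))))

theorem flat_quotient {C D : Type u} [CommRing C] [CommRing D] [Algebra C D] [Module.Flat C D]
    (P : Ideal C) : Module.Flat (C ⧸ P) (D ⧸ P.map (algebraMap C D)) := by
  refine Groth.L07.RegFlat.flat_quotient (N := D) P Ideal.Quotient.mk_surjective Ideal.mk_ker
    ((Ideal.Quotient.mkₐ C (P.map (algebraMap C D))).toLinearMap) Ideal.Quotient.mk_surjective ?_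
  rw [Ideal.smul_top_eq_map]
  ext x
  simp [Ideal.Quotient.eq_zero_iff_mem]

variable {S R : Type u} [CommRing S] [CommRing R] [IsLocalRing S] [IsLocalRing R] [Algebra S R]
  [Module.Flat S R] [IsNoetherianRing S] [IsNoetherianRing R]

theorem eq_maximal_of_comap (hm : (maximalIdeal S).map (algebraMap S R) = maximalIdeal R)
    {Q : Ideal R} [Q.IsPrime] (h : Q.comap (algebraMap S R) = maximalIdeal S) :
    Q = maximalIdeal R :=
  le_antisymm (le_maximalIdeal (Ideal.IsPrime.ne_top inferInstance))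
    (hm ▸ Ideal.map_le_iff_le_comap.mpr h.ge)

/-- Immediate generizations go up. -/
theorem exists_cov_of_cov (hm : (maximalIdeal S).map (algebraMap S R) = maximalIdeal R)
    {J : Ideal S} {P : Ideal S} (hP : P ∈ J.minimalPrimes) (hc : Cov P) :
    ∃ Q ∈ (J.map (algebraMap S R)).minimalPrimes, Cov Q := by
  haveI := hP.1.1
  haveI : IsLocalHom (algebraMap S R) := ((local_hom_TFAE _).out 0 2).mpr hm.le
  haveI : Module.FaithfullyFlat S R := Module.FaithfullyFlat.of_flat_of_isLocalHom
  obtain ⟨Q', hQ'⟩ := PrimeSpectrum.comap_surjective_of_faithfullyFlat (A := S) (B := R) ⟨P, inferInstance⟩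
  have hQ'P : Q'.asIdeal.comap (algebraMap S R) = P := congrArg PrimeSpectrum.asIdeal hQ'
  obtain ⟨Q, hQ, hQle⟩ := Ideal.exists_minimalPrimes_le (I := J.map (algebraMap S R)) (J := Q'.asIdeal)
    (Ideal.map_le_iff_le_comap.mpr (hQ'P.symm ▸ hP.1.2))
  haveI := hQ.1.1
  have hQP : Q.comap (algebraMap S R) = P := by
    have hle : Q.comap (algebraMap S R) ≤ P := hQ'P ▸ Ideal.comap_mono hQle
    exact le_antisymm hle (hP.2 ⟨inferInstance, Ideal.map_le_iff_le_comap.mp hQ.1.2⟩ hle)
  have hQm : Q ≠ maximalIdeal R := fun h => hc.1 (by rw [← hQP, h, maximalIdeal_comap])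
  refine ⟨Q, hQ, hQm, fun Q'' hQ'' hle => ?_⟩
  haveI := hQ''
  by_contra hne
  push Not at hne
  have hQ''P : Q''.comap (algebraMap S R) = P :=
    (hc.2 _ inferInstance (hQP ▸ Ideal.comap_mono hle)).resolve_right fun h => hne.2 (eq_maximal_of_comap hm h)
  obtain ⟨a, ha, haP⟩ := SetLike.not_le_iff_exists.mp fun h : maximalIdeal S ≤ P =>
    hc.1 (le_antisymm (le_maximalIdeal (Ideal.IsPrime.ne_top inferInstance)) h)
  let π := Ideal.Quotient.mk Q
  let b := π (algebraMap S R a)
  have hmin : (maximalIdeal R).map π ∈ (Ideal.span {b}).minimalPrimes := by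
    haveI : ((maximalIdeal R).map π).IsPrime :=
      Ideal.map_isPrime_of_surjective Ideal.Quotient.mk_surjective
        (by rw [Ideal.mk_ker]; exact le_maximalIdeal (Ideal.IsPrime.ne_top inferInstance))
    refine ⟨⟨inferInstance, (Ideal.span_singleton_le_iff_mem _).mpr
      (Ideal.mem_map_of_mem _ (hm ▸ Ideal.mem_map_of_mem _ ha))⟩, fun T hT _ => ?_⟩
    haveI := hT.1
    have hmem : a ∈ (T.comap π).comap (algebraMap S R) := hT.2 (Ideal.mem_span_singleton_self b)
    have hPle : P ≤ (T.comap π).comap (algebraMap S R) := hQP ▸ Ideal.comap_mono (fun x hx => by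
      rw [Ideal.mem_comap, Ideal.Quotient.eq_zero_iff_mem.mpr hx]; exact zero_mem _)
    have := eq_maximal_of_comap hm ((hc.2 _ inferInstance hPle).resolve_left fun h => haP (h ▸ hmem))
    rw [← this, Ideal.map_comap_of_surjective _ Ideal.Quotient.mk_surjective]
  have h1 := Ideal.height_le_one_of_isPrincipal_of_mem_minimalPrimes (Ideal.span {b}) _ hmin
  haveI : ((maximalIdeal R).map π).IsPrime := hmin.1.1
  haveI : (Q''.map π).IsPrime := Ideal.map_isPrime_of_surjective Ideal.Quotient.mk_surjective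
    (by rw [Ideal.mk_ker]; exact hle)
  have hcm : ∀ T : Ideal R, Q ≤ T → (T.map π).comap π = T := fun T hT => by
    rw [Ideal.comap_map_of_surjective _ Ideal.Quotient.mk_surjective, ← RingHom.ker_eq_comap_bot,
      Ideal.mk_ker, sup_eq_left.mpr hT]
  have l2 : Q''.map π < (maximalIdeal R).map π :=
    lt_of_le_of_ne (Ideal.map_mono (le_maximalIdeal (Ideal.IsPrime.ne_top inferInstance))) fun h =>
      hne.2 (by rw [← hcm Q'' hle, h, hcm _ (le_maximalIdeal (Ideal.IsPrime.ne_top inferInstance))])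
  have l1 : (⊥ : Ideal (R ⧸ Q)) < Q''.map π := bot_lt_iff_ne_bot.mpr fun h => hne.1 (by
    rw [← hcm Q'' hle, h, ← RingHom.ker_eq_comap_bot, Ideal.mk_ker])
  have h2 := (Ideal.height_strict_mono_of_isPrime_of_isPrime l1).trans_le le_rfl
  have h3 := Ideal.height_strict_mono_of_isPrime_of_isPrime l2
  have h4 : (Q''.map π).height < 1 := h3.trans_le h1
  rw [ENat.lt_one_iff_eq_zero.mp h4] at h2
  exact not_lt_zero h2

/-- Immediate generizations go down, the base being henselian. -/
theorem cov_comap (hm : (maximalIdeal S).map (algebraMap S R) = maximalIdeal R)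
    [HenselianLocalRing S] (hres : ∀ y : R, ∃ x : S, y - algebraMap S R x ∈ maximalIdeal R)
    {J : Ideal S} {Q : Ideal R} (hQ : Q ∈ (J.map (algebraMap S R)).minimalPrimes) (hc : Cov Q) :
    ∃ P ∈ J.minimalPrimes, Cov P := by
  haveI := hQ.1.1
  haveI : IsLocalHom (algebraMap S R) := ((local_hom_TFAE _).out 0 2).mpr hm.le
  let P := Q.comap (algebraMap S R)
  have hPmin : P ∈ J.minimalPrimes := by
    refine ⟨⟨inferInstance, Ideal.map_le_iff_le_comap.mp hQ.1.2⟩, fun T hT hTle => ?_⟩
    haveI := hT.1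
    haveI : Q.LiesOver P := ⟨rfl⟩
    obtain ⟨Q', hQ'le, hQ', hov⟩ := Ideal.exists_ideal_le_liesOver_of_le (S := R) (p := T) (q := P) Q hTle
    have : Q ≤ Q' := hQ.2 ⟨hQ', Ideal.map_le_iff_le_comap.mpr (hT.2.trans hov.over.le)⟩ hQ'le
    exact (Ideal.comap_mono this).trans hov.over.ge
  refine ⟨P, hPmin, fun h => hc.1 (eq_maximal_of_comap hm h), fun P' hP' hle => ?_⟩
  by_contra hne
  push Not at hne
  let PR := P.map (algebraMap S R)
  have hPRQ : PR ≤ Q := Ideal.map_comap_le
  haveI : Nontrivial (R ⧸ PR) := Ideal.Quotient.nontrivial_iff.mpr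
    fun h => Ideal.IsPrime.ne_top (I := Q) inferInstance (top_le_iff.mp (h ▸ hPRQ))
  haveI : IsLocalRing (R ⧸ PR) := IsLocalRing.of_surjective' (Ideal.Quotient.mk _) Ideal.Quotient.mk_surjective
  haveI : IsLocalRing (S ⧸ P) := IsLocalRing.of_surjective' (Ideal.Quotient.mk _) Ideal.Quotient.mk_surjective
  haveI : HenselianLocalRing (S ⧸ P) := Groth.L13.LocalPair.henselian_quotient P
  haveI : Module.Flat (S ⧸ P) (R ⧸ PR) := flat_quotient P
  have hmax : ∀ (A : Type u) [CommRing A] [IsLocalRing A] (K : Ideal A) [IsLocalRing (A ⧸ K)],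
      maximalIdeal (A ⧸ K) = (maximalIdeal A).map (Ideal.Quotient.mk K) := fun A _ _ K _ =>
    (IsLocalRing.map_maximalIdeal_of_surjective (Ideal.Quotient.mk K) Ideal.Quotient.mk_surjective).symm
  have hmR : (maximalIdeal (S ⧸ P)).map (algebraMap (S ⧸ P) (R ⧸ PR)) = maximalIdeal (R ⧸ PR) := by
    rw [hmax S P, hmax R PR, Ideal.map_map, ← hm, Ideal.map_map]
    rfl
  have hresR : ∀ y : R ⧸ PR, ∃ x : S ⧸ P, y - algebraMap (S ⧸ P) (R ⧸ PR) x ∈ maximalIdeal (R ⧸ PR) := by
    intro y
    obtain ⟨y, rfl⟩ := Ideal.Quotient.mk_surjective y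
    obtain ⟨x, hx⟩ := hres y
    refine ⟨Ideal.Quotient.mk P x, ?_⟩
    rw [hmax R PR]
    show Ideal.Quotient.mk PR y - Ideal.Quotient.mk PR (algebraMap S R x) ∈ _
    rw [← map_sub]
    exact Ideal.mem_map_of_mem _ hx
  have hpc : IsPreconnected ({closedPoint (S ⧸ P)}ᶜ : Set (PrimeSpectrum (S ⧸ P))) := by
    let η : PrimeSpectrum (S ⧸ P) := ⟨⊥, Ideal.isPrime_bot⟩
    by_cases hη : η = closedPoint (S ⧸ P)
    · refine (Set.subsingleton_of_forall_eq η fun x hx => ?_).isPreconnected
      exact absurd (PrimeSpectrum.ext ((maximalIdeal.isMaximal _).eq_of_le x.isPrime.ne_top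
        (le_trans (congrArg PrimeSpectrum.asIdeal hη).ge bot_le)).symm) hx
    · refine isPreconnected_singleton.subset_closure (s := {η}) (Set.singleton_subset_iff.mpr hη) fun x _ => ?_
      exact specializes_iff_mem_closure.mp ((PrimeSpectrum.le_iff_specializes η x).mp bot_le)
  have hpcR := (Groth.L07.BrnchCompl.preconnected_iff hmR hresR).mpr hpc
  let π := Ideal.Quotient.mk PR
  haveI : IsLocalHom π := IsLocalHom.of_surjective _ Ideal.Quotient.mk_surjective
  have hcm : ∀ T : Ideal R, PR ≤ T → (T.map π).comap π = T := fun T hT => by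
    rw [Ideal.comap_map_of_surjective _ Ideal.Quotient.mk_surjective, ← RingHom.ker_eq_comap_bot,
      Ideal.mk_ker, sup_eq_left.mpr hT]
  haveI : (Q.map π).IsPrime := Ideal.map_isPrime_of_surjective Ideal.Quotient.mk_surjective
    (by rw [Ideal.mk_ker]; exact hPRQ)
  let q₀ : PrimeSpectrum (R ⧸ PR) := ⟨Q.map π, inferInstance⟩
  have hPRmin : ∀ T : Ideal R, T.IsPrime → PR ≤ T → T ≤ Q → T = Q := fun T hT hPR hTQ =>
    le_antisymm hTQ (hQ.2 ⟨hT, (Ideal.map_mono hPmin.1.2).trans hPR⟩ hTQ)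
  have hcomapm : ∀ x : PrimeSpectrum (R ⧸ PR), x.asIdeal.comap π = maximalIdeal R → x = closedPoint _ :=
    fun x hx => PrimeSpectrum.ext (by
      rw [← Ideal.map_comap_of_surjective _ Ideal.Quotient.mk_surjective x.asIdeal, hx]
      exact (hmax R PR).symm)
  have hq₀ : q₀ ∈ ({closedPoint (R ⧸ PR)}ᶜ : Set _) := fun h => hc.1 (by
    rw [← hcm Q hPRQ, show Q.map π = q₀.asIdeal from rfl, Set.mem_singleton_iff.mp h]
    exact maximalIdeal_comap _)
  let others : Set (PrimeSpectrum (R ⧸ PR)) :=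
    ⋃ T ∈ {T ∈ minimalPrimes (R ⧸ PR) | T ≠ Q.map π}, PrimeSpectrum.zeroLocus (T : Set (R ⧸ PR))
  have hkey : ∀ x ∈ ({closedPoint (R ⧸ PR)}ᶜ : Set (PrimeSpectrum (R ⧸ PR))), x = q₀ := by
    by_contra! hex
    obtain ⟨x, hx, hxq⟩ := hex
    have hcl : IsClosed others :=
      ((minimalPrimes.finite_of_isNoetherianRing (R ⧸ PR)).subset (Set.sep_subset _ _)).isClosed_biUnion
        fun T _ => PrimeSpectrum.isClosed_zeroLocus _
    have hdich : ∀ y : PrimeSpectrum (R ⧸ PR), y ∈ ({closedPoint (R ⧸ PR)}ᶜ : Set _) → y ≠ q₀ → y ∈ others := by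
      intro y hy hyq
      obtain ⟨T, hT, hTy⟩ := Ideal.exists_minimalPrimes_le (I := (⊥ : Ideal (R ⧸ PR))) (J := y.asIdeal) bot_le
      refine Set.mem_biUnion ⟨hT, fun h => ?_⟩ hTy
      rw [h] at hTy
      have hQy : Q ≤ y.asIdeal.comap π := (hcm Q hPRQ).ge.trans (Ideal.comap_mono hTy)
      rcases hc.2 _ inferInstance hQy with h1 | h1
      · exact hyq (PrimeSpectrum.ext (by
          rw [← Ideal.map_comap_of_surjective _ Ideal.Quotient.mk_surjective y.asIdeal, h1]))
      · exact hy (hcomapm y h1)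
    obtain ⟨z, hz, hz1, hz2⟩ := isPreconnected_closed_iff.mp hpcR (closure {q₀}) others isClosed_closure hcl
      (fun y hy => by
        by_cases hyq : y = q₀
        · exact Or.inl (hyq ▸ subset_closure rfl)
        · exact Or.inr (hdich y hy hyq))
      ⟨q₀, hq₀, subset_closure rfl⟩ ⟨x, hx, hdich x hx hxq⟩
    have hle' : q₀ ≤ z := (PrimeSpectrum.le_iff_specializes q₀ z).mpr (specializes_iff_mem_closure.mpr hz1)
    have hQz : Q ≤ z.asIdeal.comap π := (hcm Q hPRQ).ge.trans (Ideal.comap_mono hle')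
    rcases hc.2 _ inferInstance hQz with h1 | h1
    · obtain ⟨T, ⟨hT, hTne⟩, hTz⟩ := Set.mem_iUnion₂.mp hz2
      haveI := hT.1.1
      have hTQ : T.comap π ≤ Q := h1 ▸ Ideal.comap_mono hTz
      have := hPRmin _ inferInstance (fun a ha => by
        rw [Ideal.mem_comap, Ideal.Quotient.eq_zero_iff_mem.mpr ha]; exact zero_mem _) hTQ
      exact hTne (by rw [← this, Ideal.map_comap_of_surjective _ Ideal.Quotient.mk_surjective])
    · exact hz (hcomapm z h1)
  haveI : Module.FaithfullyFlat S R := Module.FaithfullyFlat.of_flat_of_isLocalHom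
  obtain ⟨Q', hQ'⟩ := PrimeSpectrum.comap_surjective_of_faithfullyFlat (A := S) (B := R) ⟨P', hP'⟩
  have hQ'P : Q'.asIdeal.comap (algebraMap S R) = P' := congrArg PrimeSpectrum.asIdeal hQ'
  have hPRQ' : PR ≤ Q'.asIdeal := Ideal.map_le_iff_le_comap.mpr (hQ'P.symm ▸ hle)
  haveI : (Q'.asIdeal.map π).IsPrime := Ideal.map_isPrime_of_surjective Ideal.Quotient.mk_surjective
    (by rw [Ideal.mk_ker]; exact hPRQ')
  by_cases hcp : (⟨Q'.asIdeal.map π, inferInstance⟩ : PrimeSpectrum (R ⧸ PR)) = closedPoint _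
  · refine hne.2 ?_
    rw [← hQ'P, ← hcm _ hPRQ', show Q'.asIdeal.map π = maximalIdeal (R ⧸ PR) from congrArg PrimeSpectrum.asIdeal hcp,
      show (maximalIdeal (R ⧸ PR)).comap π = maximalIdeal R from maximalIdeal_comap _, maximalIdeal_comap]
  · refine hne.1 ?_
    rw [← hQ'P, ← hcm _ hPRQ', show Q'.asIdeal.map π = Q.map π from congrArg PrimeSpectrum.asIdeal (hkey _ hcp),
      hcm Q hPRQ]

end Groth.L05.HensTransfer.ImmGen
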