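import Groth.Agent.L05.Henselization.Noeth
import Groth.Agent.L05.Henselization.StrictUniq
import Groth.Agent.L05.Henselization.EssEt
import Groth.Agent.L05.Henselization.Local
import Groth.Agent.L05.Hensel.Product
import Mathlib.RingTheory.EssentialFiniteness
import Mathlib.RingTheory.Localization.Submodule
import Mathlib.RingTheory.Unramified.LocalRing

/-!
# Henselizations of essentially finite type algebras along finite maps
-/

universe u

open IsLocalRing

namespace Groth.L05.HensTransfer

set_option linter.style.haveILetI false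

variable {A : Type u} [CommRing A]

/-- `A'` is the henselization of a local `A`-algebra essentially of finite type. -/
def IsHensEft (A A' : Type u) [CommRing A] [CommRing A'] [IsLocalRing A'] [Algebra A A'] : Prop :=
  ∃ (L : Type u) (_ : CommRing L) (_ : IsLocalRing L) (_ : Algebra A L) (_ : Algebra.EssFiniteType A L)
    (_ : Algebra L A') (_ : IsScalarTower A L A') (_ : IsLocalHom (algebraMap L A')),
    Hensel.IsHenselization L A'

theorem isLocalRing_of_no_idem {H : Type u} [CommRing H] [HenselianLocalRing H] {D : Type u}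
    [CommRing D] [Nontrivial D] [Algebra H D] [Module.Finite H D]
    (h : ∀ e : D, IsIdempotentElem e → e = 0 ∨ e = 1) : IsLocalRing D := by
  obtain ⟨ι, _, e, he, hloc⟩ := Groth.L05.exists_idem_local_of_finite (A := H) D
  obtain ⟨i, hi⟩ : ∃ i, e i = 1 := by
    by_contra! hne
    apply one_ne_zero (α := D)
    rw [← he.complete, Finset.sum_eq_zero fun i _ => (h _ (he.idem i)).resolve_right (hne i)]
  haveI := hloc i
  have hbot : Ideal.span ({1 - e i} : Set D) = ⊥ := by
    rw [hi, sub_self, Ideal.span_singleton_eq_bot]
  exact ((Ideal.quotEquivOfEq hbot).trans (RingEquiv.quotientBot D)).isLocalRing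

theorem residue_map_eq {L L' T : Type u} [CommRing L] [IsLocalRing L] [CommRing L'] [IsLocalRing L']
    [Algebra L L'] [CommRing T] [IsLocalRing T] [Algebra L T] (f g : L' →ₐ[L] T)
    (hf : IsLocalHom f.toRingHom) (hg : IsLocalHom g.toRingHom)
    (h : ∀ x : L', ∃ a : L, x - algebraMap L L' a ∈ maximalIdeal L') (x : L') :
    residue T (f x) = residue T (g x) := by
  obtain ⟨a, ha⟩ := h x
  have key : ∀ φ : L' →ₐ[L] T, IsLocalHom φ.toRingHom →
      residue T (φ x) = residue T (algebraMap L T a) := fun φ hφ => by
    rw [← sub_eq_zero, ← map_sub, residue_eq_zero_iff]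
    have := ((IsLocalRing.local_hom_TFAE φ.toRingHom).out 0 2 rfl rfl).mp hφ
      (Ideal.mem_map_of_mem _ ha)
    simpa using this
  rw [key f hf, key g hg]

/-- Finitely many elements of a henselization come from a local essentially étale stage of which it
is still the henselization. -/
theorem exists_stage {L H : Type u} [CommRing L] [IsLocalRing L] [CommRing H] [IsLocalRing H]
    [Algebra L H] [IsLocalHom (algebraMap L H)] [hH : Hensel.IsHenselization L H] (s : Finset H) :
    ∃ (L' : Type u) (_ : CommRing L') (_ : IsLocalRing L') (_ : Algebra L L')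
      (_ : Algebra.EssFiniteType L L') (_ : Algebra L' H) (_ : IsScalarTower L L' H)
      (_ : IsLocalHom (algebraMap L' H)),
      Hensel.IsHenselization L' H ∧ ∀ x ∈ s, x ∈ (algebraMap L' H).range := by
  classical
  obtain ⟨E, _, _, α, β, hE, hc⟩ := (Groth.L27.IndEtale.isIndEtale_iff_exists_factor L H).mp
    (Groth.L05.Henselization.isIndEtale_of_isHenselization L H)
    (MvPolynomial s L) (MvPolynomial.aeval fun x => (x : H))
  haveI := hE
  let q : Ideal E := (maximalIdeal H).comap β.toRingHom
  haveI : q.IsPrime := Ideal.IsPrime.comap _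
  have hu : ∀ x : q.primeCompl, IsUnit (β x) := fun x => of_not_not fun h => x.2 h
  let L' := Localization.AtPrime q
  let j : L' →ₐ[L] H := IsLocalization.liftAlgHom (M := q.primeCompl) (f := β) hu
  have hj : ∀ e, j (algebraMap E L' e) = β e := fun e => IsLocalization.lift_eq hu e
  letI : Algebra L' H := j.toRingHom.toAlgebra
  haveI : IsScalarTower L L' H := IsScalarTower.of_algebraMap_eq fun a => (j.commutes a).symm
  haveI hloc : IsLocalHom (algebraMap L' H) := ⟨fun x hx => by
    obtain ⟨e, t, rfl⟩ := IsLocalization.exists_mk'_eq q.primeCompl x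
    rw [IsLocalization.AtPrime.isUnit_mk'_iff]
    intro hn
    have h1 : j (IsLocalization.mk' L' e t) * β t = β e := by
      rw [← hj, ← map_mul, IsLocalization.mk'_spec, hj]
    exact (show β e ∈ maximalIdeal H from hn) (h1 ▸ hx.mul (hu t))⟩
  haveI : Algebra.FormallyUnramified E L' := .of_isLocalization q.primeCompl
  haveI : Algebra.EssFiniteType E L' := .of_isLocalization L' q.primeCompl
  haveI : Algebra.FormallyUnramified L L' := .comp L E L'
  haveI : Algebra.EssFiniteType L L' := .comp L E L'
  have hres : ∀ x : L', ∃ a : L, x - algebraMap L L' a ∈ maximalIdeal L' := fun x => by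
    obtain ⟨y, hy⟩ := (Groth.L05.Henselization.residueField_map_bijective_of_isHenselization L H).2
      (residue H (algebraMap L' H x))
    obtain ⟨a, rfl⟩ := residue_surjective y
    refine ⟨a, fun hu' => ?_⟩
    rw [ResidueField.map_residue, ← sub_eq_zero, ← map_sub, residue_eq_zero_iff] at hy
    have := hu'.map (algebraMap L' H)
    rw [map_sub, ← IsScalarTower.algebraMap_apply] at this
    exact hy (by simpa using this.neg)
  refine ⟨L', inferInstance, inferInstance, inferInstance, inferInstance, inferInstance, inferInstance,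
    hloc, ⟨hH.henselian, fun T _ _ f hf => ?_⟩,
    fun x hx => ⟨algebraMap E L' (α (MvPolynomial.X ⟨x, hx⟩)), by
      show j (algebraMap E L' _) = x
      rw [hj, ← AlgHom.comp_apply, hc, MvPolynomial.aeval_X]⟩⟩
  haveI : IsLocalHom (algebraMap L L') := ⟨fun a ha => IsLocalHom.map_nonunit (f := algebraMap L H) a
    (by rw [IsScalarTower.algebraMap_apply L L' H]; exact ha.map _)⟩
  have hf₀ : IsLocalHom (f.comp (algebraMap L L')) := RingHom.isLocalHom_comp _ _
  obtain ⟨g, hg, hgu⟩ := hH.universal T (f.comp (algebraMap L L')) hf₀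
  refine ⟨g, ?_, fun g' hg' => hgu g' ?_⟩
  · letI : Algebra L T := (f.comp (algebraMap L L')).toAlgebra
    have hgloc : IsLocalHom g := ((IsLocalRing.local_hom_TFAE g).out 0 2 rfl rfl).mpr (by
      rw [← Groth.L05.Henselization.map_maximalIdeal_of_isHenselization L H, Ideal.map_map, hg]
      exact ((IsLocalRing.local_hom_TFAE _).out 0 2 rfl rfl).mp hf₀)
    let g₁ : L' →ₐ[L] T :=
      { g.comp (algebraMap L' H) with
        commutes' := fun a => by
          show g (algebraMap L' H (algebraMap L L' a)) = _
          rw [← IsScalarTower.algebraMap_apply]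
          exact DFunLike.congr_fun hg a }
    let f₁ : L' →ₐ[L] T :=
      { f with
        commutes' := fun a => rfl }
    have hg₁ : IsLocalHom g₁.toRingHom := RingHom.isLocalHom_comp g (algebraMap L' H)
    have := Groth.L05.Henselization.algHom_eq_of_residue_eq g₁ f₁ (residue_map_eq g₁ f₁ hg₁ hf hres)
    exact RingHom.ext fun x => DFunLike.congr_fun this x
  · show g'.comp (algebraMap L H) = _
    rw [IsScalarTower.algebraMap_eq L L' H, ← RingHom.comp_assoc, hg']

/-- A local algebra finite over the henselization of an algebra essentially of finite type is again one. -/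
theorem isHensEft_of_finite {H C : Type u} [CommRing H] [IsLocalRing H] [IsNoetherianRing H]
    [Algebra A H] (hH : IsHensEft A H) [CommRing C] [hC : HenselianLocalRing C] [Algebra H C]
    [Algebra A C] [IsScalarTower A H C] [IsLocalHom (algebraMap H C)] [Module.Finite H C] :
    IsHensEft A C := by
  classical
  obtain ⟨L, _, _, _, _, _, _, _, hLH⟩ := hH
  haveI := hLH
  obtain ⟨n, t, ht⟩ := Module.Finite.exists_fin (R := H) (M := C)
  let Φ : (Fin n → H) →ₗ[H] C := Fintype.linearCombination H t
  have hΦ : Function.Surjective Φ := fun x => by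
    obtain ⟨c, hc⟩ := (Submodule.mem_span_range_iff_exists_fun H).mp (ht ▸ Submodule.mem_top (x := x))
    exact ⟨c, by rw [Fintype.linearCombination_apply]; exact hc⟩
  obtain ⟨r, hr⟩ := IsNoetherian.noetherian (LinearMap.ker Φ)
  choose c hc using fun ij : Fin n × Fin n => hΦ (t ij.1 * t ij.2)
  obtain ⟨e, he⟩ := hΦ 1
  obtain ⟨L', _, _, _, _, _, _, hloc', hL'H, hrange⟩ := exists_stage (L := L) (H := H)
    ((r ∪ Finset.univ.image c ∪ {e}).biUnion fun v => Finset.univ.image v)
  have hlift : ∀ v ∈ r ∪ Finset.univ.image c ∪ {e}, ∃ l : Fin n → L',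
      ∀ i, algebraMap L' H (l i) = v i := fun v hv => by
    choose l hl using fun i => hrange (v i) (Finset.mem_biUnion.mpr
      ⟨v, hv, Finset.mem_image_of_mem _ (Finset.mem_univ i)⟩)
    exact ⟨l, hl⟩
  letI : Algebra A L' := ((algebraMap L L').comp (algebraMap A L)).toAlgebra
  haveI : IsScalarTower A L L' := IsScalarTower.of_algebraMap_eq fun _ => rfl
  haveI : Algebra.EssFiniteType A L' := .comp A L L'
  letI : Algebra L' C := ((algebraMap H C).comp (algebraMap L' H)).toAlgebra
  haveI : IsScalarTower L' H C := IsScalarTower.of_algebraMap_eq fun _ => rfl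
  haveI : IsScalarTower A L' C := IsScalarTower.of_algebraMap_eq fun a => by
    show algebraMap A C a = algebraMap H C (algebraMap L' H (algebraMap L L' (algebraMap A L a)))
    rw [← IsScalarTower.algebraMap_apply L L' H, ← IsScalarTower.algebraMap_apply A L H,
      ← IsScalarTower.algebraMap_apply A H C]
  let D : Subalgebra L' C := Algebra.adjoin L' (Set.range t)
  haveI : Algebra.FiniteType L' D := .adjoin_of_finite (Set.finite_range t)
  have htD : ∀ i, t i ∈ D := fun i => Algebra.subset_adjoin ⟨i, rfl⟩
  let q : Ideal D := (maximalIdeal C).comap D.val.toRingHom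
  haveI : q.IsPrime := Ideal.IsPrime.comap _
  have hu : ∀ x : q.primeCompl, IsUnit (D.val x.1) := fun x => of_not_not fun h => x.2 h
  let N := Localization.AtPrime q
  let j : N →ₐ[L'] C := IsLocalization.liftAlgHom (M := q.primeCompl) (f := D.val) hu
  have hj : ∀ d : D, j (algebraMap D N d) = (d : C) := fun d => IsLocalization.lift_eq hu d
  letI : Algebra N C := j.toRingHom.toAlgebra
  haveI : IsScalarTower L' N C := IsScalarTower.of_algebraMap_eq fun a => (j.commutes a).symm
  haveI : IsScalarTower A N C := IsScalarTower.of_algebraMap_eq fun a => by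
    rw [IsScalarTower.algebraMap_apply A L' N, ← IsScalarTower.algebraMap_apply L' N C,
      ← IsScalarTower.algebraMap_apply A L' C]
  haveI : Algebra.EssFiniteType D N := .of_isLocalization N q.primeCompl
  haveI : Algebra.EssFiniteType L' N := .comp L' D N
  haveI : Algebra.EssFiniteType A N := .comp A L' N
  haveI hNloc : IsLocalHom (algebraMap N C) := ⟨fun x hx => by
    obtain ⟨d, s, rfl⟩ := IsLocalization.exists_mk'_eq q.primeCompl x
    rw [IsLocalization.AtPrime.isUnit_mk'_iff]
    intro hn
    have h1 : j (IsLocalization.mk' N d s) * (s.1 : C) = (d : C) := by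
      rw [← hj, ← map_mul, IsLocalization.mk'_spec, hj]
    exact (show (d : C) ∈ maximalIdeal C from hn) (h1 ▸ hx.mul (hu s))⟩
  refine ⟨N, inferInstance, inferInstance, inferInstance, inferInstance, inferInstance, inferInstance,
    hNloc, ⟨hC, fun T _ _ f hf => ?_⟩⟩
  haveI : IsLocalHom (algebraMap L' N) := ⟨fun a ha => by
    have h1 : IsUnit (algebraMap H C (algebraMap L' H a)) := by
      rw [← IsScalarTower.algebraMap_apply, IsScalarTower.algebraMap_apply L' N C]
      exact ha.map _
    exact IsLocalHom.map_nonunit (f := algebraMap L' H) a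
      (IsLocalHom.map_nonunit (f := algebraMap H C) _ h1)⟩
  obtain ⟨g₀, hg₀, hg₀u⟩ := hL'H.universal T (f.comp (algebraMap L' N)) (RingHom.isLocalHom_comp _ _)
  letI : Algebra H T := g₀.toAlgebra
  let u : Fin n → T := fun i => f (algebraMap D N ⟨t i, htD i⟩)
  let Ψ : (Fin n → H) →ₗ[H] T := Fintype.linearCombination H u
  have hval : ∀ (v : Fin n → H) (l : Fin n → L'), (∀ i, algebraMap L' H (l i) = v i) →
      Ψ v = f (algebraMap D N (∑ i, l i • (⟨t i, htD i⟩ : D))) ∧
        Φ v = ((∑ i, l i • (⟨t i, htD i⟩ : D) : D) : C) := fun v l hl => by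
    constructor
    · rw [map_sum, map_sum, Fintype.linearCombination_apply]
      refine Finset.sum_congr rfl fun i _ => ?_
      rw [Algebra.smul_def, Algebra.smul_def, map_mul, map_mul, ← hl i,
        ← IsScalarTower.algebraMap_apply L' D N]
      exact congrArg (· * u i) (DFunLike.congr_fun hg₀ (l i))
    · rw [AddSubmonoidClass.coe_finset_sum, Fintype.linearCombination_apply]
      refine Finset.sum_congr rfl fun i _ => ?_
      rw [← hl i, algebraMap_smul]
      rfl
  have hle : LinearMap.ker Φ ≤ LinearMap.ker Ψ := by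
    rw [← hr, Submodule.span_le]
    intro v hv
    obtain ⟨l, hl⟩ := hlift v (Finset.mem_union_left _ (Finset.mem_union_left _ (Finset.mem_coe.mp hv)))
    obtain ⟨h1, h2⟩ := hval v l hl
    have h3 : Φ v = 0 := LinearMap.mem_ker.mp (hr ▸ Submodule.subset_span hv)
    rw [h2] at h3
    have h4 : (∑ i, l i • (⟨t i, htD i⟩ : D) : D) = 0 := Subtype.ext h3
    rw [SetLike.mem_coe, LinearMap.mem_ker, h1, h4, map_zero, map_zero]
  let G : C →ₗ[H] T := (Submodule.liftQ _ Ψ hle).comp
    (LinearMap.quotKerEquivOfSurjective Φ hΦ).symm.toLinearMap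
  have hG : ∀ v, G (Φ v) = Ψ v := fun v => by
    show Submodule.liftQ _ Ψ hle ((LinearMap.quotKerEquivOfSurjective Φ hΦ).symm (Φ v)) = _
    rw [show (LinearMap.quotKerEquivOfSurjective Φ hΦ).symm (Φ v) = Submodule.Quotient.mk v from
      (LinearEquiv.symm_apply_eq _).mpr rfl, Submodule.liftQ_apply]
  have hGl : ∀ (v : Fin n → H) (d : D), v ∈ r ∪ Finset.univ.image c ∪ {e} → Φ v = (d : C) →
      G d = f (algebraMap D N d) := fun v d hv hd => by
    obtain ⟨l, hl⟩ := hlift v hv
    obtain ⟨h1, h2⟩ := hval v l hl
    rw [← hd, hG, h1]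
    exact congrArg (fun z => f (algebraMap D N z)) (Subtype.ext (h2.symm.trans hd))
  have hG1 : G 1 = 1 := by
    rw [show (1 : C) = ((1 : D) : C) from rfl, hGl e 1 (by simp) he, map_one, map_one]
  have hGt : ∀ i, G (t i) = u i := fun i => by
    rw [show t i = Φ (Pi.single i 1) by simp [Φ], hG]
    simp [Ψ]
  have hGtt : ∀ i k, G (t i * t k) = G (t i) * G (t k) := fun i k => by
    rw [show t i * t k = (((⟨t i, htD i⟩ : D) * ⟨t k, htD k⟩ : D) : C) from rfl,
      hGl (c (i, k)) _ (by simp) (hc (i, k)), map_mul, map_mul, hGt, hGt]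
  have hspan : Submodule.span H (Set.range t) = ⊤ := ht
  have hGmul : ∀ x y, G (x * y) = G x * G y := by
    intro x y
    have hy : ∀ i, G (t i * y) = G (t i) * G y := fun i => by
      induction (hspan ▸ Submodule.mem_top (x := y) : y ∈ Submodule.span H (Set.range t))
        using Submodule.span_induction with
      | mem z hz => obtain ⟨k, rfl⟩ := hz; exact hGtt i k
      | zero => simp
      | add a b _ _ ha hb => rw [mul_add, map_add, ha, hb, map_add, mul_add]
      | smul a z _ hz => rw [mul_smul_comm, map_smul, hz, map_smul, mul_smul_comm]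
    induction (hspan ▸ Submodule.mem_top (x := x) : x ∈ Submodule.span H (Set.range t))
      using Submodule.span_induction with
    | mem z hz => obtain ⟨k, rfl⟩ := hz; exact hy k
    | zero => simp
    | add a b _ _ ha hb => rw [add_mul, map_add, ha, hb, map_add, add_mul]
    | smul a z _ hz => rw [smul_mul_assoc, map_smul, hz, map_smul, smul_mul_assoc]
  let G' : C →ₐ[H] T := AlgHom.ofLinearMap G hG1 hGmul
  refine ⟨G'.toRingHom, ?_, fun g' hg' => ?_⟩
  · refine IsLocalization.ringHom_ext q.primeCompl ?_
    refine RingHom.ext fun d => ?_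
    show G (j (algebraMap D N d)) = f (algebraMap D N d)
    rw [hj]
    obtain ⟨x, hx⟩ := d
    induction hx using Algebra.adjoin_induction with
    | mem y hy => obtain ⟨i, rfl⟩ := hy; exact hGt i
    | algebraMap l =>
      show G (algebraMap H C (algebraMap L' H l)) = f (algebraMap D N (algebraMap L' D l))
      rw [← IsScalarTower.algebraMap_apply L' D N]
      exact (G'.commutes _).trans (DFunLike.congr_fun hg₀ l)
    | add a b ha hb iha ihb =>
      show G (a + b) = f (algebraMap D N ((⟨a, ha⟩ : D) + ⟨b, hb⟩))
      rw [map_add, map_add, map_add, iha, ihb]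
    | mul a b ha hb iha ihb =>
      show G (a * b) = f (algebraMap D N ((⟨a, ha⟩ : D) * ⟨b, hb⟩))
      rw [hGmul, map_mul, map_mul, iha, ihb]
  · have h1 : g'.comp (algebraMap H C) = g₀ := hg₀u _ (by
      beta_reduce
      rw [RingHom.comp_assoc, show (algebraMap H C).comp (algebraMap L' H) = algebraMap L' C from rfl,
        IsScalarTower.algebraMap_eq L' N C, ← RingHom.comp_assoc, hg'])
    let g'' : C →ₐ[H] T :=
      { g' with
        commutes' := fun a => DFunLike.congr_fun h1 a }
    have h2 : g''.toLinearMap = G'.toLinearMap := by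
      refine LinearMap.ext_on_range hspan fun i => ?_
      show g' (t i) = G (t i)
      rw [hGt]
      exact (congrArg g' (hj ⟨t i, htD i⟩).symm).trans (DFunLike.congr_fun hg' _)
    exact RingHom.ext fun x => LinearMap.congr_fun h2 x

/-- Descent along an injective finite map. -/
theorem isHensEft_of_injective [IsNoetherianRing A] {A' C : Type u} [CommRing A']
    [hA' : HenselianLocalRing A'] [Algebra A A'] [CommRing C] [IsLocalRing C] [Algebra A C]
    [Algebra A' C] [IsScalarTower A A' C] [IsLocalHom (algebraMap A' C)] [Module.Finite A' C]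
    (hinj : Function.Injective (algebraMap A' C)) (hC : IsHensEft A C) : IsHensEft A A' := by
  classical
  obtain ⟨P, _, _, _, _, _, _, _, hPC⟩ := hC
  obtain ⟨n, t, ht⟩ := Module.Finite.exists_fin (R := A') (M := C)
  have hsurj : ∀ x : C, ∃ a : Fin n → A', ∑ i, a i • t i = x := fun x =>
    (Submodule.mem_span_range_iff_exists_fun A').mp (ht ▸ Submodule.mem_top (x := x))
  choose co hco using hsurj
  let F : Finset C := insert 1 ((Algebra.EssFiniteType.finset A P).image (algebraMap P C) ∪
    Finset.univ.image fun ij : Fin n × Fin n => t ij.1 * t ij.2)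
  let S : Finset A' := F.biUnion fun x => Finset.univ.image (co x)
  let B : Subalgebra A A' := Algebra.adjoin A (S : Set A')
  haveI : Algebra.FiniteType A B := .adjoin_of_finite S.finite_toSet
  let q : Ideal B := (maximalIdeal A').comap B.val.toRingHom
  haveI : q.IsPrime := Ideal.IsPrime.comap _
  have hu : ∀ x : q.primeCompl, IsUnit (B.val x.1) := fun x => of_not_not fun h => x.2 h
  let L := Localization.AtPrime q
  let j : L →ₐ[A] A' := IsLocalization.liftAlgHom (M := q.primeCompl) (f := B.val) hu
  have hj : ∀ b : B, j (algebraMap B L b) = (b : A') := fun b => IsLocalization.lift_eq hu b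
  have hjloc : IsLocalHom j.toRingHom := ⟨fun x hx => by
    obtain ⟨d, s, rfl⟩ := IsLocalization.exists_mk'_eq q.primeCompl x
    rw [IsLocalization.AtPrime.isUnit_mk'_iff]
    intro hn
    have h1 : j (IsLocalization.mk' L d s) * (s.1 : A') = (d : A') := by
      rw [← hj, ← map_mul, IsLocalization.mk'_spec, hj]
    exact (show (d : A') ∈ maximalIdeal A' from hn) (h1 ▸ hx.mul (hu s))⟩
  haveI : Algebra.EssFiniteType B L := .of_isLocalization L q.primeCompl
  haveI : Algebra.EssFiniteType A L := .comp A B L
  haveI : IsNoetherianRing L := Algebra.EssFiniteType.isNoetherianRing A L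
  obtain ⟨H, _, _, _, _, hH⟩ := Groth.L05.Henselization.exists_isHenselization L
  haveI : HenselianLocalRing H := hH.henselian
  haveI : IsNoetherianRing H :=
    (Groth.L05.Henselization.isNoetherianRing_iff_hens L H).mp inferInstance
  obtain ⟨ψ, hψ, -⟩ := hH.universal A' j.toRingHom hjloc
  have hψloc : IsLocalHom ψ := ((IsLocalRing.local_hom_TFAE ψ).out 0 2 rfl rfl).mpr (by
    rw [← Groth.L05.Henselization.map_maximalIdeal_of_isHenselization L H, Ideal.map_map, hψ]
    exact ((IsLocalRing.local_hom_TFAE _).out 0 2 rfl rfl).mp hjloc)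
  letI : Algebra A H := ((algebraMap L H).comp (algebraMap A L)).toAlgebra
  haveI : IsScalarTower A L H := IsScalarTower.of_algebraMap_eq fun _ => rfl
  letI : Algebra H A' := ψ.toAlgebra
  haveI : IsScalarTower A H A' := IsScalarTower.of_algebraMap_eq fun a => by
    show algebraMap A A' a = ψ (algebraMap L H (algebraMap A L a))
    rw [show ψ (algebraMap L H (algebraMap A L a)) = j (algebraMap A L a) from DFunLike.congr_fun hψ _,
      j.commutes]
  haveI : IsLocalHom (algebraMap H A') := hψloc
  letI : Algebra H C := ((algebraMap A' C).comp ψ).toAlgebra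
  haveI : IsScalarTower H A' C := IsScalarTower.of_algebraMap_eq fun _ => rfl
  haveI : IsLocalHom (algebraMap H C) := RingHom.isLocalHom_comp (algebraMap A' C) ψ
  have hrange : ∀ x ∈ F, x ∈ Submodule.span H (Set.range t) := fun x hx => by
    rw [← hco x]
    refine sum_mem fun i _ => ?_
    have hi : co x i ∈ B := Algebra.subset_adjoin (Finset.mem_coe.mpr (Finset.mem_biUnion.mpr
      ⟨x, hx, Finset.mem_image_of_mem _ (Finset.mem_univ i)⟩))
    have e : algebraMap H A' (algebraMap L H (algebraMap B L ⟨co x i, hi⟩)) = co x i :=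
      (DFunLike.congr_fun hψ _).trans (hj _)
    rw [← e, algebraMap_smul]
    exact Submodule.smul_mem _ _ (Submodule.subset_span ⟨i, rfl⟩)
  let D : Subalgebra H C := (Submodule.span H (Set.range t)).toSubalgebra
    (hrange 1 (Finset.mem_insert_self _ _)) (fun x y hx hy => by
      induction hx using Submodule.span_induction with
      | mem z hz =>
        obtain ⟨i, rfl⟩ := hz
        induction hy using Submodule.span_induction with
        | mem w hw =>
          obtain ⟨k, rfl⟩ := hw
          exact hrange _ (Finset.mem_insert_of_mem (Finset.mem_union_right _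
            (Finset.mem_image.mpr ⟨(i, k), Finset.mem_univ _, rfl⟩)))
        | zero => simp
        | add a b _ _ ha hb => rw [mul_add]; exact add_mem ha hb
        | smul a z _ hz => rw [mul_smul_comm]; exact Submodule.smul_mem _ _ hz
      | zero => simp
      | add a b _ _ ha hb => rw [add_mul]; exact add_mem ha hb
      | smul a z _ hz => rw [smul_mul_assoc]; exact Submodule.smul_mem _ _ hz)
  haveI : Module.Finite H D := Module.Finite.iff_fg.mpr (Submodule.fg_span (Set.finite_range t))
  haveI : IsLocalRing D := isLocalRing_of_no_idem (H := H) fun e he => by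
    have hec : IsIdempotentElem (e : C) := congrArg Subtype.val he.eq
    rcases IsLocalRing.isUnit_or_isUnit_one_sub_self (e : C) with h | h
    · exact Or.inr (Subtype.ext (h.mul_left_cancel (hec.eq.trans (mul_one (e : C)).symm)))
    · exact Or.inl (Subtype.ext (h.mul_left_eq_zero.mp (by rw [mul_sub, mul_one, hec.eq, sub_self])))
  haveI : HenselianLocalRing D := Groth.L05.henselianLocalRing_of_finite (A := H) D
  have hDloc : IsLocalHom D.val.toRingHom := by
    refine ((IsLocalRing.local_hom_TFAE D.val.toRingHom).out 0 4 rfl rfl).mpr ?_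
    have hcomap : ((maximalIdeal C).comap D.val.toRingHom).comap (algebraMap H D) = maximalIdeal H := by
      rw [Ideal.comap_comap, show D.val.toRingHom.comp (algebraMap H D) = algebraMap H C from rfl]
      exact IsLocalRing.maximalIdeal_comap (algebraMap H C)
    haveI : ((maximalIdeal C).comap D.val.toRingHom).IsPrime := Ideal.IsPrime.comap _
    exact eq_maximalIdeal (Ideal.isMaximal_of_isIntegral_of_isMaximal_comap (R := H) _
      (hcomap ▸ maximalIdeal.isMaximal H))
  have hPD : ∀ p ∈ Algebra.EssFiniteType.subalgebra A P, algebraMap P C p ∈ D := by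
    intro p hp
    induction hp using Algebra.adjoin_induction with
    | mem y hy =>
      exact hrange _ (Finset.mem_insert_of_mem (Finset.mem_union_left _ (Finset.mem_image_of_mem _ hy)))
    | algebraMap a =>
      rw [← IsScalarTower.algebraMap_apply, IsScalarTower.algebraMap_apply A A' C,
        IsScalarTower.algebraMap_apply A H A', ← IsScalarTower.algebraMap_apply H A' C]
      exact D.algebraMap_mem _
    | add a b _ _ ha hb => rw [map_add]; exact add_mem ha hb
    | mul a b _ _ ha hb => rw [map_mul]; exact mul_mem ha hb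
  have hPD' : ∀ p : P, algebraMap P C p ∈ D := fun p => by
    obtain ⟨a, s, rfl⟩ := IsLocalization.exists_mk'_eq (Algebra.EssFiniteType.submonoid A P) p
    obtain ⟨w, hw⟩ := hDloc.map_nonunit (⟨_, hPD s.1.1 s.1.2⟩ : D) ((s.2 : IsUnit (s.1 : P)).map (algebraMap P C))
    have h1 : algebraMap P C (IsLocalization.mk' P a s) * ((w : D) : C) = algebraMap P C (a : P) := by
      rw [hw]
      show algebraMap P C _ * algebraMap P C (s.1 : P) = _
      rw [← map_mul]
      exact congrArg _ (IsLocalization.mk'_spec P a s)
    have h2 : algebraMap P C (IsLocalization.mk' P a s) =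
        ((⟨_, hPD a.1 a.2⟩ * ((w⁻¹ : Dˣ) : D) : D) : C) := by
      show _ = algebraMap P C (a : P) * (((w⁻¹ : Dˣ) : D) : C)
      rw [← h1, mul_assoc, show ((w : D) : C) * (((w⁻¹ : Dˣ) : D) : C) = 1 from
        congrArg Subtype.val w.mul_inv, mul_one]
    rw [h2]
    exact SetLike.coe_mem _
  let f : P →+* D := (algebraMap P C).codRestrict D hPD'
  have hf : IsLocalHom f := ⟨fun p hp => IsLocalHom.map_nonunit (f := algebraMap P C) p (hp.map D.val)⟩
  obtain ⟨g, hg, -⟩ := hPC.universal D f hf
  haveI := hPC.henselian
  have hid : D.val.toRingHom.comp g = RingHom.id C := by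
    refine (hPC.universal C (algebraMap P C) inferInstance).unique ?_ (RingHom.id_comp _)
    rw [RingHom.comp_assoc, hg]
    exact RingHom.ext fun _ => rfl
  haveI : Module.Finite H C := Module.Finite.of_surjective D.val.toLinearMap fun x =>
    ⟨g x, DFunLike.congr_fun hid x⟩
  haveI : Module.Finite H A' := Module.Finite.of_injective
    (IsScalarTower.toAlgHom H A' C).toLinearMap hinj
  exact isHensEft_of_finite (H := H) ⟨L, inferInstance, inferInstance, inferInstance, inferInstance,
    inferInstance, inferInstance, inferInstance, hH⟩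

end Groth.L05.HensTransfer
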